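import Cfsg.Agent.Lib.ChevBN.Parabolic
import Cfsg.Agent.Lib.Chev.Unitriangular

/-!
# The level filtration of a maximal parabolic subgroup over the field with two elements

`lev D M j` (the `j`-th coefficient), `L hD F M j l` = ⟨x_r : lev r ≥ l⟩; `L_le_raises`,
`conj_L`, `mem_succ_of_entries` (an element of `L l` with vanishing entries `(e_β, h_i)`,
lev β = l, lies in `L (l+1)`), and the transport of triangularity under `n_i`.
-/

set_option autoImplicit false

namespace Cfsg.Agent.ChevLevel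

open scoped Pointwise
open Cfsg.Lie Cfsg.Lie.ChevalleyDatum Cfsg.Agent.Chev Cfsg.Agent.ChevSt Cfsg.Agent.ChevBN Matrix

variable {D : ChevalleyDatum} {M : List (List ℤ)} {j : ℕ} (hD : Good D) (hR : Roots D M 1)
  {F : Type*} [Field F]

variable (D M j) in
/-- The level of a root. -/
def lev (q : ℕ) : ℤ := co D M j q

/-- The matrices `g` with `g - 1` and `g⁻¹ - 1` raising the weight of `f` by at least `k`. -/
abbrev Rz (D : ChevalleyDatum) (F : Type*) [Field F] (f : ℕ → ℤ) (k : ℕ) : Subgroup (GL D.Idx F) :=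
  Chev.Uni.level (wt D f) k

variable (D M j F) in
/-- The subgroup generated by the root elements of level at least `l`. -/
def L (l : ℕ) : Subgroup (GL D.Idx F) :=
  Subgroup.closure {g | ∃ (r : ℕ) (t : F), r < D.nroots ∧ (l : ℤ) ≤ lev D M j r ∧
    (g : Matrix D.Idx D.Idx F) = D.x F r t}

theorem raises_offdiag {f : ℕ → ℤ} {k : ℤ} {A : Matrix D.Idx D.Idx F} (h0 : ∀ a, A a a = 1)
    (h : ∀ a b, a ≠ b → A a b ≠ 0 → wt D f b + k ≤ wt D f a) : Uni.Raises (wt D f) k (A - 1) := by
  intro a b hab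
  rw [Matrix.sub_apply] at hab
  by_cases e : a = b
  · subst e; simp [h0] at hab
  · rw [Matrix.one_apply_ne e, sub_zero] at hab
    exact h a b e hab

include hD

theorem xg_mem_L {r l : ℕ} (hr : r < D.nroots) (h : (l : ℤ) ≤ lev D M j r) (t : F) :
    xg hD F r t ∈ L D M j F l :=
  Subgroup.subset_closure ⟨r, t, hr, h, coe_xg hD r t⟩

omit hD in
theorem L_anti {k l : ℕ} (h : k ≤ l) : L D M j F l ≤ L D M j F k :=
  Subgroup.closure_mono fun _ ⟨r, t, hr, hl, e⟩ => ⟨r, t, hr, (by exact_mod_cast h : (k : ℤ) ≤ l).trans hl, e⟩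

theorem isLin_lev : IsLin D (lev D M j) := isLin_co hD M j

include hR

theorem isPos_of_lev_pos (hj : j < D.rank) {r : ℕ} (hr : r < D.nroots) (h : 0 < lev D M j r) :
    D.IsPosRoot r := by
  by_contra hn
  have := hR.nonpos_of_not_pos hD hr hn hj
  unfold lev at h
  omega

omit hR in
theorem L_le_group (l : ℕ) : L D M j F l ≤ D.group F := by
  refine (Subgroup.closure_le _).2 ?_
  rintro g ⟨r, t, -, -, e⟩
  obtain rfl : g = xg hD F r t := Units.ext e
  exact xg_mem_group hD r t

/-- A root element of level at least `l` raises the level by at least `l`. -/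
theorem xg_mem_raises
    (hodd : ∀ r < D.nroots, 2 ≤ lev D M j r → ∃ i < D.rank, D.cartan i r = 1 ∨ D.cartan i r = -1)
    {r l : ℕ} (hr : r < D.nroots) (h : (l : ℤ) ≤ lev D M j r) (t : F) :
    xg hD F r t ∈ Rz D F (lev D M j) l := by
  have hf := isLin_lev hD (M := M) (j := j)
  have key : ∀ u : F, Uni.Raises (wt D (lev D M j)) (l : ℤ) (D.x F r u - 1) := by
    intro u
    by_cases hpos : 0 < lev D M j r
    · have hu := uTri_x hD hf hr hpos u (F := F)
      refine raises_offdiag hu.2 fun a b hab hne => ?_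
      have hlt : wt D (lev D M j) b < wt D (lev D M j) a := (hu.1 a b hne).resolve_left hab
      by_cases h2 : 2 ≤ lev D M j r
      · obtain ⟨i, hi, hc⟩ := hodd r hr h2
        have hom := homog_x hD hR
          (((isLin_cartan hD hi).smul (lev D M j r)).addFun (hf.smul (-D.cartan i r))) hr
          (by ring) u (F := F) a b hne
        set c := D.cartan i r
        set m := lev D M j r
        have hw : ∀ x : D.Idx, wt D (fun q => m * D.cartan i q + -c * lev D M j q) x =
            m * wt D (fun q => D.cartan i q) x + -c * wt D (lev D M j) x := by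
          intro x; rcases x with i | q <;> simp [wt]
        rw [hw, hw] at hom
        set A := wt D (fun q => D.cartan i q) a
        set B := wt D (fun q => D.cartan i q) b
        set P := wt D (lev D M j) a
        set Q := wt D (lev D M j) b
        rcases hc with hc | hc <;> rw [hc] at hom
        · rcases le_or_gt 1 (A - B) with h' | h' <;> nlinarith
        · rcases le_or_gt 1 (B - A) with h' | h' <;> nlinarith
      · omega
    · have h0 : lev D M j r = 0 := by omega
      have hl : (l : ℤ) = 0 := by omega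
      intro a b hab
      rw [Matrix.sub_apply] at hab
      by_cases e : a = b
      · subst e; omega
      · rw [Matrix.one_apply_ne e, sub_zero] at hab
        have := homog_x hD hR hf hr h0 u (F := F) a b hab
        omega
  exact ⟨by rw [coe_xg]; exact key t, by rw [xg_inv, coe_xg]; exact key (-t)⟩

theorem L_le_raises
    (hodd : ∀ r < D.nroots, 2 ≤ lev D M j r → ∃ i < D.rank, D.cartan i r = 1 ∨ D.cartan i r = -1)
    (l : ℕ) : L D M j F l ≤ Rz D F (lev D M j) l := by
  refine (Subgroup.closure_le _).2 ?_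
  rintro g ⟨r, t, hr, h, e⟩
  obtain rfl : g = xg hD F r t := Units.ext e
  exact xg_mem_raises hD hR hodd hr h t

omit hR in
/-- `x_r x_s x_r⁻¹` for roots of level at least `k` and `l ≥ 1`. -/
theorem conj_xg {r s k l : ℕ} (hr : r < D.nroots) (hs : s < D.nroots)
    (hk : (k : ℤ) ≤ lev D M j r) (hl : (l : ℤ) ≤ lev D M j s) (h1 : 1 ≤ l) (t u : F) :
    ∃ c ∈ L D M j F (k + l), xg hD F r t * xg hD F s u * (xg hD F r t)⁻¹ = xg hD F s u * c := by
  by_cases e : s = r
  · subst e
    exact ⟨1, one_mem _, by rw [xg_inv, xg_add hD hs, xg_add hD hs, mul_one]; congr 1; ring⟩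
  have e' : s ≠ D.neg r := by
    rintro rfl
    rw [(isLin_lev hD (M := M) (j := j)).neg r hr] at hl
    omega
  set w : List (GL D.Idx F) := (D.commWord F r s (-t) u).map fun p => xg hD F p.1 p.2 with hw
  refine ⟨w.prod, list_prod_mem fun g hg' => ?_, ?_⟩
  · simp only [hw, ChevalleyDatum.commWord, List.map_map, List.mem_map, Function.comp_apply] at hg'
    obtain ⟨τ, hτ, rfl⟩ := hg'
    obtain ⟨hlt, hi, hjj, hval⟩ := (isLin_lev hD (M := M) (j := j)).commTerms hD hr hs e e' hτ
    refine xg_mem_L hD hlt ?_ _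
    rw [hval]
    push_cast
    nlinarith [mul_le_mul_of_nonneg_left hk (Int.natCast_nonneg τ.2.2.1),
      mul_le_mul_of_nonneg_left hl (Int.natCast_nonneg τ.2.2.2)]
  · have hc : xg hD F s u * xg hD F r (-t) = xg hD F r (-t) * xg hD F s u * w.prod := by
      apply Units.ext
      rw [Units.val_mul, Units.val_mul, Units.val_mul, coe_xg, coe_xg, hD.commutator hr hs e e',
        ← Units.coeHom_apply w.prod, map_list_prod, hw, List.map_map]
      rfl
    rw [xg_inv, mul_assoc, hc, ← mul_assoc, ← mul_assoc, xg_add hD hr, add_neg_cancel, xg_zero, one_mul]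

omit hD hR in
theorem mem_normalizer_closure {S : Set (GL D.Idx F)} {g : GL D.Idx F}
    (h1 : ∀ s ∈ S, g * s * g⁻¹ ∈ Subgroup.closure S) (h2 : ∀ s ∈ S, g⁻¹ * s * g ∈ Subgroup.closure S) :
    g ∈ Subgroup.normalizer (Subgroup.closure S : Set (GL D.Idx F)) := by
  have key : ∀ a : GL D.Idx F, (∀ s ∈ S, a * s * a⁻¹ ∈ Subgroup.closure S) →
      ∀ y ∈ Subgroup.closure S, a * y * a⁻¹ ∈ Subgroup.closure S := fun a ha y hy =>
    (((Subgroup.closure_le _).2 fun s hs => ha s hs) :
      Subgroup.closure S ≤ (Subgroup.closure S).comap (MulAut.conj a).toMonoidHom) hy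
  rw [Subgroup.mem_normalizer_iff]
  refine fun y => ⟨key g h1 y, fun h => ?_⟩
  have := key g⁻¹ (by simpa using h2) _ h
  simpa [mul_assoc] using this

omit hR in
/-- `L l` is normalised by `L 0`. -/
theorem L_zero_le_normalizer {l : ℕ} (h1 : 1 ≤ l) :
    L D M j F 0 ≤ Subgroup.normalizer (L D M j F l : Set (GL D.Idx F)) := by
  refine (Subgroup.closure_le _).2 ?_
  rintro g ⟨r, t, hr, h0, e⟩
  obtain rfl : g = xg hD F r t := Units.ext e
  have key : ∀ (v : F), ∀ s ∈ {g : GL D.Idx F | ∃ (r : ℕ) (t : F), r < D.nroots ∧ (l : ℤ) ≤ lev D M j r ∧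
      (g : Matrix D.Idx D.Idx F) = D.x F r t}, xg hD F r v * s * (xg hD F r v)⁻¹ ∈ L D M j F l := by
    rintro v g ⟨s, u, hs, hl, e⟩
    obtain rfl : g = xg hD F s u := Units.ext e
    obtain ⟨c, hc, e⟩ := conj_xg hD hr hs h0 hl h1 v u
    rw [e]
    rw [Nat.zero_add] at hc
    exact mul_mem (xg_mem_L hD hs hl u) hc
  refine mem_normalizer_closure (key t) fun s hs => ?_
  have := key (-t) s hs
  rw [← xg_inv hD, inv_inv] at this
  exact this

omit hR in
theorem conj_mem_L {l : ℕ} (h1 : 1 ≤ l) {g y : GL D.Idx F} (hg : g ∈ L D M j F 0)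
    (hy : y ∈ L D M j F l) : g * y * g⁻¹ ∈ L D M j F l :=
  (Subgroup.mem_normalizer_iff.1 (L_zero_le_normalizer hD h1 hg) y).1 hy

omit hD hR in
/-- Entries just below twice the level are additive. -/
theorem entry_mul {f : ℕ → ℤ} {l : ℕ} {g h : GL D.Idx F} (hg : g ∈ Rz D F f l) (hh : h ∈ Rz D F f l)
    {a b : D.Idx} (hab : a ≠ b) (hlt : wt D f a < wt D f b + 2 * l) :
    (g * h : GL D.Idx F).val a b = g.val a b + h.val a b := by
  have e : ((g * h : GL D.Idx F) : Matrix D.Idx D.Idx F) - 1 =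
      (g.val - 1) * (h.val - 1) + (g.val - 1) + (h.val - 1) := by
    rw [Units.val_mul]; noncomm_ring
  have h2 : ((g.val - 1) * (h.val - 1)) a b = 0 := by
    by_contra hne
    have := (hg.1.mul hh.1) a b hne
    omega
  have h3 := congrFun (congrFun e a) b
  simp only [Matrix.add_apply, Matrix.sub_apply, h2, Matrix.one_apply_ne hab, sub_zero, zero_add] at h3
  exact h3

variable (D) in
/-- The entry at `(e_β, h_i)`. -/
def hcol {R : Type*} (g : Matrix D.Idx D.Idx R) (β : Fin D.nroots) (i : Fin D.rank) : R :=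
  g (Sum.inr β) (Sum.inl i)

omit hR in
theorem hcol_xg {r : ℕ} (hr : r < D.nroots) (t : F) (β : Fin D.nroots) (i : Fin D.rank) :
    hcol D (xg hD F r t).val β i = if β.val = r then -((D.cartan i.val r : ℤ) : F) * t else 0 := by
  rw [hcol, coe_xg, x_eq_xR D hr]
  have e : xR D F r t (Sum.inr β) (Sum.inl i) = (xR D F r t *ᵥ Pi.single (Sum.inl i) 1) (Sum.inr β) := by
    rw [Matrix.mulVec_single_one]; rfl
  rw [e, xR_inl]
  by_cases h : β.val = r
  · simp [ev, h]
  · simp [ev, h]

/-- The elements of `L l` whose entries at level `l` vanish lie in `L (l + 1)`. -/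
theorem mem_succ_of_entries
    (hodd' : ∀ r < D.nroots, lev D M j r ≠ 0 → ∃ i < D.rank, ((D.cartan i r : ℤ) : F) ≠ 0)
    (hodd : ∀ r < D.nroots, 2 ≤ lev D M j r → ∃ i < D.rank, D.cartan i r = 1 ∨ D.cartan i r = -1)
    {l : ℕ} (h1 : 1 ≤ l) {g : GL D.Idx F} (hg : g ∈ L D M j F l)
    (h0 : ∀ β : Fin D.nroots, lev D M j β.val = l → ∀ i, hcol D g.val β i = 0) :
    g ∈ L D M j F (l + 1) := by
  classical
  let T : Finset (Fin D.nroots) → Set (GL D.Idx F) := fun S =>
    {x | ∃ (r : Fin D.nroots) (t : F), (r ∈ S ∧ lev D M j r.val = l ∨ (l + 1 : ℕ) ≤ lev D M j r.val) ∧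
      (x : Matrix D.Idx D.Idx F) = D.x F r.val t}
  have hsub : ∀ S, Subgroup.closure (T S) ≤ L D M j F l := fun S =>
    Subgroup.closure_mono fun x ⟨r, t, h, e⟩ => ⟨r.val, t, r.isLt, by
      rcases h with ⟨-, h⟩ | h <;> omega, e⟩
  have hup : ∀ S, L D M j F (l + 1) ≤ Subgroup.closure (T S) := fun S =>
    Subgroup.closure_mono fun x ⟨r, t, hr, h, e⟩ => ⟨⟨r, hr⟩, t, Or.inr h, e⟩
  have hadd : ∀ x ∈ L D M j F l, ∀ y ∈ L D M j F l, ∀ (β : Fin D.nroots) i, lev D M j β.val = l →
      hcol D (x * y).val β i = hcol D x.val β i + hcol D y.val β i := by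
    intro x hx y hy β i hβ
    refine entry_mul (L_le_raises hD hR hodd l hx) (L_le_raises hD hR hodd l hy) (by simp) ?_
    simp only [wt, Sum.elim_inr, Sum.elim_inl]
    omega
  have hzero : ∀ S, ∀ x ∈ Subgroup.closure (T S), ∀ β : Fin D.nroots, β ∉ S → lev D M j β.val = l →
      ∀ i, hcol D x.val β i = 0 := by
    intro S x hx β hβS hβ i
    induction hx using Subgroup.closure_induction with
    | mem y hy =>
      obtain ⟨r, t, h, e⟩ := hy
      obtain rfl : y = xg hD F r.val t := Units.ext e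
      rw [hcol_xg hD r.isLt, if_neg]
      intro e'
      obtain rfl : β = r := Fin.ext e'
      rcases h with ⟨h, -⟩ | h
      · exact hβS h
      · omega
    | one => exact Matrix.one_apply_ne (by simp)
    | mul a b ha hb ha' hb' => rw [hadd a (hsub S ha) b (hsub S hb) β i hβ, ha', hb', add_zero]
    | inv a ha ha' =>
      have := hadd a (hsub S ha) a⁻¹ (inv_mem (hsub S ha)) β i hβ
      rw [mul_inv_cancel, ha', zero_add] at this
      rw [← this]
      exact Matrix.one_apply_ne (by simp)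
  suffices H : ∀ S, ∀ x ∈ Subgroup.closure (T S),
      (∀ β : Fin D.nroots, lev D M j β.val = l → ∀ i, hcol D x.val β i = 0) → x ∈ L D M j F (l + 1) by
    refine H Finset.univ g ?_ h0
    refine ((Subgroup.closure_le _).2 ?_ : L D M j F l ≤ Subgroup.closure (T Finset.univ)) hg
    rintro x ⟨r, t, hr, h, e⟩
    refine Subgroup.subset_closure ⟨⟨r, hr⟩, t, ?_, e⟩
    by_cases h' : lev D M j r = l
    · exact Or.inl ⟨Finset.mem_univ _, h'⟩
    · exact Or.inr (show ((l + 1 : ℕ) : ℤ) ≤ lev D M j r by omega)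
  intro S
  induction S using Finset.induction_on with
  | empty =>
    intro x hx _
    refine ((Subgroup.closure_le _).2 ?_ : Subgroup.closure (T ∅) ≤ L D M j F (l + 1)) hx
    rintro y ⟨r, t, h, e⟩
    exact Subgroup.subset_closure ⟨r.val, t, r.isLt, h.resolve_left (by simp), e⟩
  | insert β S hβS ih =>
    intro x hx h0x
    by_cases hlev : lev D M j β.val = l
    swap
    · refine ih x (Subgroup.closure_mono ?_ hx) h0x
      rintro y ⟨r, t, h, e⟩
      refine ⟨r, t, h.imp_left fun ⟨h1, h2⟩ => ⟨?_, h2⟩, e⟩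
      rcases Finset.mem_insert.1 h1 with rfl | h1
      · exact absurd h2 hlev
      · exact h1
    have key : ∀ v : F, ∀ y ∈ T S, xg hD F β.val v * y * (xg hD F β.val v)⁻¹ ∈ Subgroup.closure (T S) := by
      rintro v y ⟨r, t, h, e⟩
      obtain rfl : y = xg hD F r.val t := Units.ext e
      have hr : (l : ℤ) ≤ lev D M j r.val := by rcases h with ⟨-, h⟩ | h <;> omega
      obtain ⟨c, hc, e'⟩ := conj_xg hD β.isLt r.isLt hlev.ge hr h1 v t
      rw [e']
      exact mul_mem (Subgroup.subset_closure ⟨r, t, h, coe_xg hD _ _⟩) (hup S (L_anti (by omega) hc))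
    have hN : D.rootSubgroup F β.val ≤ Subgroup.normalizer (Subgroup.closure (T S) : Set (GL D.Idx F)) := by
      intro z hz
      obtain ⟨v, rfl⟩ := (mem_rootSubgroup hD _).1 hz
      refine mem_normalizer_closure (key v) fun y hy => ?_
      have := key (-v) y hy
      rw [← xg_inv hD, inv_inv] at this
      exact this
    have hle : Subgroup.closure (T (insert β S)) ≤ Subgroup.closure (T S) ⊔ D.rootSubgroup F β.val := by
      refine (Subgroup.closure_le _).2 ?_
      rintro y ⟨r, t, h, e⟩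
      rcases h with ⟨h1, h2⟩ | h
      · rcases Finset.mem_insert.1 h1 with rfl | h1
        · exact Subgroup.mem_sup_right (Subgroup.subset_closure ⟨t, e⟩)
        · exact Subgroup.mem_sup_left (Subgroup.subset_closure ⟨r, t, Or.inl ⟨h1, h2⟩, e⟩)
      · exact Subgroup.mem_sup_left (Subgroup.subset_closure ⟨r, t, Or.inr h, e⟩)
    have hx' : x ∈ (Subgroup.closure (T S) : Set (GL D.Idx F)) * (D.rootSubgroup F β.val : Set (GL D.Idx F)) := by
      rw [← Subgroup.coe_mul_of_right_le_normalizer_left _ _ hN]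
      exact hle hx
    obtain ⟨a, ha, z, hz, rfl⟩ := hx'
    obtain ⟨v, rfl⟩ := (mem_rootSubgroup hD _).1 hz
    obtain ⟨i, hi, hci⟩ := hodd' β.val β.isLt (by omega)
    have h2 := h0x β hlev ⟨i, hi⟩
    rw [hadd a (hsub S ha) _ (xg_mem_L hD β.isLt hlev.ge v) β _ hlev, hzero S a ha β hβS hlev,
      hcol_xg hD β.isLt, if_pos rfl, zero_add] at h2
    obtain rfl : v = 0 := by
      rcases mul_eq_zero.1 h2 with h | h
      · exact absurd (neg_eq_zero.1 h) hci
      · exact h
    simp only [xg_zero, mul_one] at h0x ⊢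
    exact ih a ha h0x

/-! ### Transport under `n_i` -/

omit hR in
/-- The support of `n_i`. -/
theorem ng_support {k : ℕ} (hk : k < D.rank) {a b : D.Idx}
    (h : (ng hD F (D.simple k) 1).val a b ≠ 0) :
    (∃ i i', a = Sum.inl i ∧ b = Sum.inl i') ∨
      ∃ u q, a = Sum.inr u ∧ b = Sum.inr q ∧ u.val = wN D k q.val := by
  have hs := hD.simple_lt k hk
  have e : (ng hD F (D.simple k) 1).val a b = (D.nMat F (D.simple k) 1 *ᵥ Pi.single b 1) a := by
    rw [Matrix.mulVec_single_one, ← coe_ng hD]; rfl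
  rw [e] at h
  rcases b with i | q
  · rw [hD.n_inl hs one_ne_zero] at h
    rcases a with i' | u
    · exact Or.inl ⟨i', i, rfl, rfl⟩
    · simp [hv] at h
  · rw [← Fin.eta q q.isLt, ← ev_of_lt D F q.isLt, hD.n_root hs q.isLt one_ne_zero] at h
    rcases a with i' | u
    · simp [ev] at h
    · refine Or.inr ⟨u, q, rfl, rfl, ?_⟩
      by_contra hne
      exact h (by simp [ev, show u.val ≠ Chev.refl D (D.simple k) q.val from hne])

omit hR in
theorem ng_wt {k : ℕ} (hk : k < D.rank) (f : ℕ → ℤ) {a b : D.Idx}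
    (h : (ng hD F (D.simple k) 1).val a b ≠ 0) :
    wt D f a = wt D (fun q => f (wN D k q)) b ∧ wt D (fun q => f (wN D k q)) a = wt D f b := by
  rcases ng_support hD hk h with ⟨i, i', rfl, rfl⟩ | ⟨u, q, rfl, rfl, e⟩
  · exact ⟨rfl, rfl⟩
  · refine ⟨by simp [wt, e], ?_⟩
    simp only [wt, Sum.elim_inr, e]
    rw [wN, wN, refl_refl hD (hD.simple_lt k hk) q.isLt]

omit hR in
theorem isLin_comp {f : ℕ → ℤ} (hf : IsLin D f) {k : ℕ} (hk : k < D.rank) :
    IsLin D fun q => f (wN D k q) := by
  have e : ∀ q < D.nroots, f (wN D k q) = f q + -f (D.simple k) * D.cartan k q := fun q hq => by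
    rw [wN, hf.refl hD (hD.simple_lt k hk) hq, pairing_simple hD hk]; ring
  have h := hf.addFun ((isLin_cartan hD hk).smul (-f (D.simple k)))
  refine ⟨fun r hr s hs q hq => ?_, fun r hr => ?_⟩
  · simp only [e r hr, e s hs, e q (chainRoot_lt hD hr hs hq)]
    exact h.add r hr s hs q hq
  · simp only [e r hr, e _ (hD.neg_lt r hr)]
    exact h.neg r hr

omit hR in
/-- Conjugation by an involution `n_i` transports triangularity. -/
theorem conj_ng_raises {k : ℕ} (hk : k < D.rank) {f : ℕ → ℤ} {l : ℕ}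
    (hn2 : ng hD F (D.simple k) 1 * ng hD F (D.simple k) 1 = 1) {y : GL D.Idx F} (hy : y ∈ Rz D F f l) :
    ng hD F (D.simple k) 1 * y * ng hD F (D.simple k) 1 ∈ Rz D F (fun q => f (wN D k q)) l := by
  set n := ng hD F (D.simple k) 1
  have key : ∀ A : Matrix D.Idx D.Idx F, Uni.Raises (wt D f) l (A - 1) →
      Uni.Raises (wt D fun q => f (wN D k q)) l (n.val * A * n.val - 1) := by
    intro A hA a b hab
    have h1 : n.val * n.val = (1 : Matrix D.Idx D.Idx F) := by rw [← Units.val_mul, hn2, Units.val_one]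
    rw [show n.val * A * n.val - 1 = n.val * (A - 1) * n.val by
      rw [mul_sub, sub_mul, mul_one, h1], Matrix.mul_apply] at hab
    obtain ⟨d, -, hd⟩ := Finset.exists_ne_zero_of_sum_ne_zero hab
    obtain ⟨c, -, hc⟩ := Finset.exists_ne_zero_of_sum_ne_zero
      (Matrix.mul_apply (M := n.val) (N := A - 1) ▸ left_ne_zero_of_mul hd)
    have := hA c d (right_ne_zero_of_mul hc)
    have e1 := (ng_wt hD hk f (left_ne_zero_of_mul hc)).2
    have e2 := (ng_wt hD hk f (right_ne_zero_of_mul hd)).1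
    omega
  have hinv : (n * y * n)⁻¹ = n * y⁻¹ * n := by
    rw [_root_.mul_inv_rev, _root_.mul_inv_rev, inv_eq_of_mul_eq_one_right hn2, mul_assoc]
  exact ⟨by rw [Units.val_mul, Units.val_mul]; exact key _ hy.1,
    by rw [hinv, Units.val_mul, Units.val_mul]; exact key _ hy.2⟩

omit hR in
/-- If the entries of `y` at `(e_{wβ}, h_i)` vanish then so do those of `n y n` at `(e_β, h_i)`. -/
theorem hcol_conj {k : ℕ} (hk : k < D.rank) (y : GL D.Idx F) (β : Fin D.nroots)
    (h : ∀ γ : Fin D.nroots, γ.val = wN D k β.val → ∀ i, hcol D y.val γ i = 0) (i : Fin D.rank) :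
    hcol D (ng hD F (D.simple k) 1 * y * ng hD F (D.simple k) 1).val β i = 0 := by
  rw [hcol, Units.val_mul, Units.val_mul, Matrix.mul_apply]
  refine Finset.sum_eq_zero fun d _ => ?_
  by_contra hd
  obtain ⟨c, -, hc⟩ := Finset.exists_ne_zero_of_sum_ne_zero
    (Matrix.mul_apply (M := (ng hD F (D.simple k) 1).val) (N := y.val) ▸ left_ne_zero_of_mul hd)
  rcases ng_support hD hk (left_ne_zero_of_mul hc) with ⟨_, _, e, -⟩ | ⟨u, q, e1, rfl, e3⟩
  · exact absurd e (by simp)
  rcases ng_support hD hk (right_ne_zero_of_mul hd) with ⟨i', _, rfl, -⟩ | ⟨_, _, -, e, -⟩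
  · refine right_ne_zero_of_mul hc (h q ?_ i')
    obtain rfl : β = u := Sum.inr.inj e1
    rw [e3, wN, wN, refl_refl hD (hD.simple_lt k hk) q.isLt]
  · exact absurd e (by simp)

end Cfsg.Agent.ChevLevel
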