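import Cfsg.Agent.Lib.ChevLevel.Step
import Cfsg.Agent.Lib.ChevBN.RootTables
import Cfsg.Prelude.Def_ChevE8

/-!
# The tables for the node of `E₈` with coefficient 6 in the highest root
-/

set_option autoImplicit false
set_option maxRecDepth 100000

namespace Cfsg.Agent.ChevLevel

open Cfsg.Lie Cfsg.Agent.Chev Cfsg.Agent.ChevBN

/-- Weyl words in the three components of the Levi subgroup, with prescribed multiplicities. -/
def wordsE8 (a b c : List ℕ) : List (List ℕ) :=
  let e : List (List ℕ) → List ℕ → List (List ℕ) := fun ws ns =>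
    ((ws.zip ns).map fun p => List.replicate p.2 p.1).flatten
  List.zipWith (· ++ ·) (List.zipWith (· ++ ·) (e [[], [1]] a) (e [[], [2], [0, 2]] b))
    (e [[], [4], [5, 4], [6, 5, 4], [7, 6, 5, 4]] c)

theorem tablesE8 : Tables chevE8 adjE8 3 0 19 (wordsE8 [8, 7] [6, 5, 4] [5, 4, 3, 2, 1])
    (wordsE8 [7, 8] [4, 5, 6] [1, 2, 3, 4, 5]) := by
  constructor <;> decide +kernel

theorem lev_top_E8 : 239 < chevE8.nroots ∧ lev chevE8 adjE8 3 239 = 6 ∧
    ∀ r < chevE8.nroots, lev chevE8 adjE8 3 r ≤ 6 := by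
  decide +kernel

end Cfsg.Agent.ChevLevel
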