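import Cfsg.Agent.Lib.ChevLevel.Basic

/-!
# Descending through the levels

`Tables`: the finite checks on the roots; for the field with two elements, `step` (a subgroup of
`L l` normalised by the Levi reflections whose conjugate by `n_j` lies deep enough is in `L (l+1)`)
and `base` (a subgroup of `L 0` normalised by them, with conjugate in `L 0`, is in `L 1`).
-/

set_option autoImplicit false

namespace Cfsg.Agent.ChevLevel

open scoped Pointwise
open Cfsg.Lie Cfsg.Lie.ChevalleyDatum Cfsg.Agent.Chev Cfsg.Agent.ChevSt Cfsg.Agent.ChevBN Matrix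

variable (D : ChevalleyDatum) (M : List (List ℤ)) (j : ℕ)

/-- The pullback of the level along `w_j` and a word. -/
def fW : List ℕ → ℕ → ℤ
  | [] => fun q => lev D M j (wN D j q)
  | k :: w => fun q => fW w (wN D k q)

/-- A sum of pullbacks, shifted by a multiple of the level. -/
def fS (m : ℤ) : List (List ℕ) → ℕ → ℤ
  | [] => fun q => m * lev D M j q
  | w :: ws => fun q => fW D M j w q + fS m ws q

/-- The table checks. -/
structure Tables (m C : ℤ) (wp wm : List (List ℕ)) : Prop where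
  m_nonneg : 0 ≤ m
  odd : ∀ r < D.nroots, lev D M j r ≠ 0 → ∃ i < D.rank, D.cartan i r = 1 ∨ D.cartan i r = -1
  lower : ∀ r < D.nroots, 2 ≤ lev D M j r → lev D M j r - 1 ≤ lev D M j (wN D j r)
  climb : ∀ r < D.nroots, 1 ≤ lev D M j r → (∃ k < D.rank, k ≠ j ∧ 0 < D.cartan k r) ∨
    lev D M j (wN D j r) < if lev D M j r = 1 then 0 else lev D M j r
  wp_lt : ∀ w ∈ wp, ∀ k ∈ w, k < D.rank ∧ k ≠ j
  wm_lt : ∀ w ∈ wm, ∀ k ∈ w, k < D.rank ∧ k ≠ j
  wp_pos : ∀ k < D.rank, 0 < fS D M j m wp (D.simple k)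
  wm_eq : ∀ k < D.rank, fS D M j m wm (D.simple k) + ht D M (D.simple k) = C * lev D M j (D.simple k)
  bound : ∀ r < D.nroots, 1 ≤ lev D M j r → ht D M r ≤ C * lev D M j r

variable {D M j} {m C : ℤ} {wp wm : List (List ℕ)} (hD : Good D) (hR : Roots D M 1) (hj : j < D.rank)
  {F : Type*} [Field F] (hF : ∀ t : F, t ≠ 0 → t = 1)

include hD

theorem isLin_fW : ∀ w : List ℕ, j < D.rank → (∀ k ∈ w, k < D.rank ∧ k ≠ j) → IsLin D (fW D M j w)
  | [], hj, _ => isLin_comp hD (isLin_lev hD) hj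
  | k :: w, hj, h => isLin_comp hD (isLin_fW w hj fun a ha => h a (List.mem_cons_of_mem _ ha))
      (h k (by simp)).1

theorem isLin_fS (m : ℤ) : ∀ ws : List (List ℕ), j < D.rank → (∀ w ∈ ws, ∀ k ∈ w, k < D.rank ∧ k ≠ j) →
    IsLin D (fS D M j m ws)
  | [], _, _ => (isLin_lev hD).smul m
  | w :: ws, hj, h => (isLin_fW hD w hj (h w (by simp))).addFun
      (isLin_fS m ws hj fun a ha => h a (List.mem_cons_of_mem _ ha))

include hF

theorem ng_sq (r : ℕ) : ng hD F r 1 * ng hD F r 1 = 1 := by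
  conv_lhs => arg 2; rw [← hF (-1) (neg_ne_zero.2 one_ne_zero), ← ng_inv]
  rw [mul_inv_cancel]

theorem diag_eq_bot : D.diagonalSubgroup F = ⊥ := by
  rw [eq_bot_iff]
  refine (Subgroup.closure_le _).2 ?_
  rintro g ⟨r, t, hr, ht, e⟩
  obtain rfl : g = hg hD F r t := Units.ext (e.trans (coe_hg hD r t).symm)
  rw [hF t ht, hg, hF (-1) (neg_ne_zero.2 one_ne_zero)]
  exact ng_sq hD hF r

include hR hj

omit hD hF in
theorem posUnipotent_le_L_zero : D.posUnipotent F ≤ L D M j F 0 := by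
  refine (Subgroup.closure_le _).2 ?_
  rintro g ⟨r, t, hr, e⟩
  exact Subgroup.subset_closure ⟨r, t, hr.1, by simpa [lev] using (hR.sgn r hr.1).1 hr j hj, e⟩

theorem borel_le_L_zero : D.borelSubgroup F ≤ L D M j F 0 := by
  rw [ChevalleyDatum.borelSubgroup, diag_eq_bot hD hF, sup_bot_eq]
  exact posUnipotent_le_L_zero hR hj

omit hF hj in
theorem lev_refl {k r : ℕ} (hk : k < D.rank) (hkj : k ≠ j) (hr : r < D.nroots) (hj : j < D.rank) :
    lev D M j (wN D k r) = lev D M j r := by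
  rw [lev, hR.co_refl hD hk hr hj, if_neg (Ne.symm hkj), sub_zero]
  rfl

omit hF in
theorem ng_mem_L_zero {k : ℕ} (hk : k < D.rank) (hkj : k ≠ j) :
    ng hD F (D.simple k) 1 ∈ L D M j F 0 := by
  have h : lev D M j (D.simple k) = 0 := by rw [lev, hR.dual j hj k hk, if_neg (Ne.symm hkj)]
  have h' : lev D M j (D.neg (D.simple k)) = 0 := by
    rw [(isLin_lev hD (M := M) (j := j)).neg _ (hD.simple_lt k hk), h, neg_zero]
  exact mul_mem (mul_mem (xg_mem_L hD (hD.simple_lt k hk) (by simp [h]) _)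
    (xg_mem_L hD (hD.neg_lt _ (hD.simple_lt k hk)) (by simp [h']) _))
    (xg_mem_L hD (hD.simple_lt k hk) (by simp [h]) _)

omit hF hj in
theorem xg_mem_rz_zero {f : ℕ → ℤ} (hf : IsLin D f) {r : ℕ} (hr : r < D.nroots) (h : 0 ≤ f r) (t : F) :
    xg hD F r t ∈ Rz D F f 0 := by
  have key : ∀ u : F, Uni.Raises (wt D f) ((0 : ℕ) : ℤ) (D.x F r u - 1) := by
    intro u a b hab
    rw [Matrix.sub_apply] at hab
    by_cases e : a = b
    · subst e; simp
    rw [Matrix.one_apply_ne e, sub_zero] at hab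
    rcases h.eq_or_lt with h0 | h0
    · have := homog_x hD hR hf hr h0.symm u (F := F) a b hab; omega
    · have := ((uTri_x hD hf hr h0 u (F := F)).1 a b hab).resolve_left e; omega
  exact ⟨by rw [coe_xg]; exact key t, by rw [xg_inv, coe_xg]; exact key (-t)⟩

omit hF hR hj in
theorem ng_not_mem_rz {f : ℕ → ℤ} (hf : IsLin D f) {k : ℕ} (hk : k < D.rank) (hpos : 0 < f (D.simple k)) :
    ng hD F (D.simple k) 1 ∉ Rz D F f 0 := by
  intro hmem
  have hs := hD.simple_lt k hk
  have hn := hD.neg_lt _ hs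
  have he : (ng hD F (D.simple k) 1).val (Sum.inr ⟨_, hn⟩) (Sum.inr ⟨_, hs⟩) =
      (nSign D (D.simple k) (D.simple k) : F) := by
    have e : (ng hD F (D.simple k) 1).val (Sum.inr ⟨_, hn⟩) (Sum.inr ⟨_, hs⟩) =
        (D.nMat F (D.simple k) 1 *ᵥ Pi.single (Sum.inr ⟨_, hs⟩) 1) (Sum.inr ⟨_, hn⟩) := by
      rw [Matrix.mulVec_single_one, ← coe_ng hD]; rfl
    rw [e, ← ev_of_lt D F hs, hD.n_root hs hs one_ne_zero]
    simp [ev, Chev.refl]
  have hne : (nSign D (D.simple k) (D.simple k) : F) ≠ 0 := by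
    rcases (nSign_cases hD hs hs).1 with h | h <;> simp [h]
  have hab : (Sum.inr ⟨_, hn⟩ : D.Idx) ≠ Sum.inr ⟨_, hs⟩ := by
    simp only [ne_eq, Sum.inr.injEq, Fin.mk.injEq]
    exact hD.neg_ne _ hs
  have := hmem.1 _ _ (by rw [Matrix.sub_apply, he, Matrix.one_apply_ne hab, sub_zero]; exact hne)
  simp only [wt, Sum.elim_inr, hf.neg _ hs] at this
  omega

omit hj in
theorem mem_borel {g : GL D.Idx F} {f : ℕ → ℤ} (hf : IsLin D f) (hpos : ∀ k < D.rank, 0 < f (D.simple k))
    (hg : g ∈ D.group F) (hg' : g ∈ Rz D F f 0) : g ∈ D.borelSubgroup F := by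
  obtain ⟨P, hB, -, hS⟩ := exists_bnPair hD hR (F := F)
  set K := (Rz D F f 0).subgroupOf (D.group F)
  have hBK : P.B ≤ K := by
    rw [hB]
    intro x hx
    rw [Subgroup.mem_subgroupOf, ChevalleyDatum.borelSubgroup, diag_eq_bot hD hF, sup_bot_eq] at hx
    refine ((Subgroup.closure_le _).2 ?_ : D.posUnipotent F ≤ Rz D F f 0) hx
    rintro y ⟨r, t, hr, e⟩
    obtain rfl : y = xg hD F r t := Units.ext e
    refine xg_mem_rz_zero hD hR hf hr.1 ?_ t
    have hneg := lin_neg hD hR (g := fun q => -1 * f q) (hf.smul (-1))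
      (fun i hi => by have := hpos i hi; omega) hr.1 hr
    omega
  have he : P.S ∩ (K : Set (D.group F)) = ∅ := by
    ext x
    simp only [Set.mem_inter_iff, SetLike.mem_coe, Set.mem_empty_iff_false, iff_false, not_and]
    intro hxS hxK
    rw [hS] at hxS
    obtain ⟨k, hk, e⟩ := hxS
    obtain he : (x : GL D.Idx F) = ng hD F (D.simple k) 1 := Units.ext (e.trans (coe_ng hD _ _).symm)
    rw [Subgroup.mem_subgroupOf, he] at hxK
    exact ng_not_mem_rz hD hf hk (hpos k hk) hxK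
  have hgK : (⟨g, hg⟩ : D.group F) ∈ K := hg'
  rw [BN.eq_parabolic_of_le P hBK, he, Cfsg.BNPair.parabolic, Subgroup.closure_empty, sup_bot_eq, hB] at hgK
  exact hgK

variable (hT : Tables D M j m C wp wm)
include hT

omit hD hR hF hj in
theorem odd2 : ∀ r < D.nroots, 2 ≤ lev D M j r → ∃ i < D.rank, D.cartan i r = 1 ∨ D.cartan i r = -1 :=
  fun r hr h => hT.odd r hr (by omega)

omit hR hF in
theorem conj_L_succ {l : ℕ} (h1 : 1 ≤ l) (hn2 : ng hD F (D.simple j) 1 * ng hD F (D.simple j) 1 = 1)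
    {y : GL D.Idx F} (hy : y ∈ L D M j F (l + 1)) :
    ng hD F (D.simple j) 1 * y * ng hD F (D.simple j) 1 ∈ L D M j F l := by
  set n := ng hD F (D.simple j) 1
  have hinv : n⁻¹ = n := inv_eq_of_mul_eq_one_right hn2
  have : L D M j F (l + 1) ≤ (L D M j F l).comap (MulAut.conj n).toMonoidHom := by
    refine (Subgroup.closure_le _).2 ?_
    rintro g ⟨r, t, hr, h, e⟩
    obtain rfl : g = xg hD F r t := Units.ext e
    show n * xg hD F r t * n⁻¹ ∈ L D M j F l
    rw [ng_conj_xg hD hj hr]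
    have := hT.lower r hr (by omega)
    exact xg_mem_L hD (refl_lt hD (hD.simple_lt j hj) hr) (show (l : ℤ) ≤ lev D M j (wN D j r) by omega) _
  have := this hy
  rwa [Subgroup.mem_comap, MulEquiv.coe_toMonoidHom, MulAut.conj_apply, hinv] at this

/-- The induction step. -/
theorem step {l k₀ : ℕ} (h1 : 1 ≤ l) (hk₀ : l = 1 ∧ k₀ = 0 ∨ 2 ≤ l ∧ k₀ = l) {A : Subgroup (GL D.Idx F)}
    (hA : A ≤ L D M j F l)
    (hconj : ∀ k < D.rank, k ≠ j → ∀ a ∈ A,
      ng hD F (D.simple k) 1 * a * ng hD F (D.simple k) 1 ∈ A)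
    (hn : ∀ a ∈ A, ng hD F (D.simple j) 1 * a * ng hD F (D.simple j) 1 ∈ L D M j F k₀) :
    A ≤ L D M j F (l + 1) := by
  have cancel : ∀ k (a : GL D.Idx F), ng hD F (D.simple k) 1 *
      (ng hD F (D.simple k) 1 * a * ng hD F (D.simple k) 1) * ng hD F (D.simple k) 1 = a := by
    intro k a
    simp only [mul_assoc]
    rw [ng_sq hD hF, mul_one, ← mul_assoc, ng_sq hD hF, one_mul]
  suffices H : ∀ β : Fin D.nroots, lev D M j β.val = l → ∀ a ∈ A, ∀ i, hcol D a.val β i = 0 by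
    intro a ha
    refine mem_succ_of_entries hD hR (fun r hr h => ?_) (odd2 hT) h1 (hA ha)
      fun β hβ => H β hβ a ha
    obtain ⟨i, hi, h | h⟩ := hT.odd r hr h <;> exact ⟨i, hi, by simp [h]⟩
  intro β
  induction hn' : (ht D M β.val).toNat using Nat.strong_induction_on generalizing β with
  | _ d ih =>
    intro hβ a ha
    rcases hT.climb β.val β.isLt (by omega) with ⟨k, hk, hkj, hc⟩ | hgood
    · let γ : Fin D.nroots := ⟨wN D k β.val, refl_lt hD (hD.simple_lt k hk) β.isLt⟩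
      have hγ : lev D M j γ.val = l := (lev_refl hD hR hk hkj β.isLt hj).trans hβ
      have hp : D.IsPosRoot γ.val := isPos_of_lev_pos hD hR hj γ.isLt (by omega)
      have h0 := hR.ht_pos _ γ.isLt hp
      have hlt : ht D M γ.val < ht D M β.val := by
        show ht D M (wN D k β.val) < _
        rw [hR.ht_refl hD hk β.isLt]; omega
      have hz := ih (ht D M γ.val).toNat (by omega) γ rfl hγ _ (hconj k hk hkj a ha)
      intro i
      rw [← cancel k a]
      refine hcol_conj hD hk _ β (fun γ' hγ' => ?_) i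
      obtain rfl : γ' = γ := Fin.ext hγ'
      exact hz
    · intro i
      rw [← cancel j a]
      refine hcol_conj hD hj _ β (fun γ hγ i' => ?_) i
      have hy := (L_le_raises hD hR (odd2 hT) k₀ (hn a ha)).1
      by_contra hne
      have := hy (Sum.inr γ) (Sum.inl i') (by
        rw [Matrix.sub_apply, Matrix.one_apply_ne (by simp), sub_zero]; exact hne)
      simp only [wt, Sum.elim_inr, Sum.elim_inl, zero_add, hγ] at this
      rcases hk₀ with ⟨rfl, rfl⟩ | ⟨hl2, rfl⟩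
      · rw [hβ] at hgood; simp at hgood this; omega
      · rw [hβ, if_neg (by omega)] at hgood; omega

omit hF in
theorem mem_rz_fW {A : Subgroup (GL D.Idx F)}
    (hn2 : ∀ k < D.rank, ng hD F (D.simple k) 1 * ng hD F (D.simple k) 1 = 1)
    (hconj : ∀ k < D.rank, k ≠ j → ∀ a ∈ A,
      ng hD F (D.simple k) 1 * a * ng hD F (D.simple k) 1 ∈ A)
    (hn : ∀ a ∈ A, ng hD F (D.simple j) 1 * a * ng hD F (D.simple j) 1 ∈ L D M j F 0) :
    ∀ w : List ℕ, (∀ k ∈ w, k < D.rank ∧ k ≠ j) → ∀ a ∈ A, a ∈ Rz D F (fW D M j w) 0 := by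
  have cancel : ∀ k < D.rank, ∀ a : GL D.Idx F, ng hD F (D.simple k) 1 *
      (ng hD F (D.simple k) 1 * a * ng hD F (D.simple k) 1) * ng hD F (D.simple k) 1 = a := by
    intro k hk a
    simp only [mul_assoc]
    rw [hn2 k hk, mul_one, ← mul_assoc, hn2 k hk, one_mul]
  intro w
  induction w with
  | nil =>
    intro _ a ha
    rw [← cancel j hj a]
    exact conj_ng_raises hD hj (hn2 j hj) (L_le_raises hD hR (odd2 hT) 0 (hn a ha))
  | cons k w ih =>
    intro hw a ha
    rw [← cancel k (hw k (by simp)).1 a]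
    exact conj_ng_raises hD (hw k (by simp)).1 (hn2 k (hw k (by simp)).1)
      (ih (fun x hx => hw x (List.mem_cons_of_mem _ hx)) _ (hconj k (hw k (by simp)).1 (hw k (by simp)).2 a ha))

omit hD hR hF hj hT in
theorem raises_add {f g : ℕ → ℤ} {x : Matrix D.Idx D.Idx F} (h1 : Uni.Raises (wt D f) 0 x)
    (h2 : Uni.Raises (wt D g) 0 x) : Uni.Raises (wt D fun q => f q + g q) 0 x := by
  intro a b h
  have e : ∀ c : D.Idx, wt D (fun q => f q + g q) c = wt D f c + wt D g c := by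
    intro c; rcases c with i | q <;> simp [wt]
  rw [e, e]
  have := h1 a b h
  have := h2 a b h
  omega

omit hD hR hF hj hT in
theorem mem_rz_fS {x : GL D.Idx F} (hm : 0 ≤ m) (h0 : x ∈ Rz D F (lev D M j) 0) :
    ∀ ws : List (List ℕ), (∀ w ∈ ws, x ∈ Rz D F (fW D M j w) 0) → x ∈ Rz D F (fS D M j m ws) 0
  | [], _ => by
    have key : ∀ A : Matrix D.Idx D.Idx F, Uni.Raises (wt D (lev D M j)) ((0 : ℕ) : ℤ) A →
        Uni.Raises (wt D (fS D M j m [])) ((0 : ℕ) : ℤ) A := by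
      intro A hA a b h
      have e : ∀ c : D.Idx, wt D (fS D M j m []) c = m * wt D (lev D M j) c := by
        intro c; rcases c with i | q <;> simp [wt, fS]
      rw [e, e]
      have := hA a b h
      push_cast at this ⊢
      nlinarith
    exact ⟨key _ h0.1, key _ h0.2⟩
  | w :: ws, h => by
    have h1 := h w (by simp)
    have h2 := mem_rz_fS hm h0 ws fun v hv => h v (List.mem_cons_of_mem _ hv)
    exact ⟨raises_add h1.1 h2.1, raises_add h1.2 h2.2⟩

/-- The first level. -/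
theorem base {A : Subgroup (GL D.Idx F)} (hA : A ≤ L D M j F 0)
    (hconj : ∀ k < D.rank, k ≠ j → ∀ a ∈ A,
      ng hD F (D.simple k) 1 * a * ng hD F (D.simple k) 1 ∈ A)
    (hn : ∀ a ∈ A, ng hD F (D.simple j) 1 * a * ng hD F (D.simple j) 1 ∈ L D M j F 0) :
    A ≤ L D M j F 1 := by
  intro a ha
  have hw := mem_rz_fW hD hR hj hT (fun k _ => ng_sq hD hF _) hconj hn
  have h0 := L_le_raises hD hR (odd2 hT) 0 (hA ha)
  have hp := mem_rz_fS hT.m_nonneg h0 wp fun w hw' => hw w (hT.wp_lt w hw') a ha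
  have hgm := mem_rz_fS hT.m_nonneg h0 wm fun w hw' => hw w (hT.wm_lt w hw') a ha
  have haB := mem_borel hD hR hF (isLin_fS hD m wp hj hT.wp_lt) hT.wp_pos
    (L_le_group hD 0 (hA ha)) hp
  rw [ChevalleyDatum.borelSubgroup, diag_eq_bot hD hF, sup_bot_eq] at haB
  -- split `a = u ℓ`
  let Z : Subgroup (GL D.Idx F) := Subgroup.closure {g | ∃ (r : ℕ) (t : F), r < D.nroots ∧
    lev D M j r = 0 ∧ (g : Matrix D.Idx D.Idx F) = D.x F r t}
  have hZ : Z ≤ L D M j F 0 :=
    Subgroup.closure_mono fun g ⟨r, t, hr, h, e⟩ => ⟨r, t, hr, by simp [h], e⟩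
  have hsup : L D M j F 0 ≤ L D M j F 1 ⊔ Z := by
    refine (Subgroup.closure_le _).2 ?_
    rintro g ⟨r, t, hr, h, e⟩
    by_cases h' : lev D M j r = 0
    · exact Subgroup.mem_sup_right (Subgroup.subset_closure ⟨r, t, hr, h', e⟩)
    · exact Subgroup.mem_sup_left (Subgroup.subset_closure ⟨r, t, hr, by push_cast at h ⊢; omega, e⟩)
  have hmem : a ∈ (L D M j F 1 : Set (GL D.Idx F)) * (Z : Set (GL D.Idx F)) := by
    rw [← Subgroup.coe_mul_of_right_le_normalizer_left _ _ (hZ.trans (L_zero_le_normalizer hD le_rfl))]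
    exact hsup (hA ha)
  obtain ⟨u, hu, z, hz, rfl⟩ := hmem
  have hu1 : u ∈ D.posUnipotent F := by
    refine ((Subgroup.closure_le _).2 ?_ : L D M j F 1 ≤ D.posUnipotent F) hu
    rintro g ⟨r, t, hr, h, e⟩
    exact Subgroup.subset_closure ⟨r, t, isPos_of_lev_pos hD hR hj hr (by push_cast at h; omega), e⟩
  set g₂ := fS D M j m wm
  have hg₂ : IsLin D g₂ := isLin_fS hD m wm hj hT.wm_lt
  have hsum : ∀ q < D.nroots, g₂ q + ht D M q = C * lev D M j q := fun q hq =>
    lin_ext hD hR (hg₂.addFun (isLin_ht hD M)) ((isLin_lev hD).smul C) hT.wm_eq hq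
  have hu2 : u ∈ Rz D F g₂ 0 := by
    refine ((Subgroup.closure_le _).2 ?_ : L D M j F 1 ≤ Rz D F g₂ 0) hu
    rintro g ⟨r, t, hr, h, e⟩
    obtain rfl : g = xg hD F r t := Units.ext e
    refine xg_mem_rz_zero hD hR hg₂ hr ?_ t
    have := hsum r hr
    have := hT.bound r hr (by push_cast at h; omega)
    omega
  have hz1 : z ∈ D.posUnipotent F := by
    have := mul_mem (inv_mem hu1) haB; rwa [inv_mul_cancel_left] at this
  have hz2 : z ∈ Rz D F g₂ 0 := by
    have := mul_mem (inv_mem hu2) hgm; rwa [inv_mul_cancel_left] at this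
  have hz3 : z ∈ Rz D F (lev D M j) 0 ⊓ Rz D F (fun q => -1 * lev D M j q) 0 := by
    refine ((Subgroup.closure_le _).2 ?_ : Z ≤ _) hz
    rintro g ⟨r, t, hr, h, e⟩
    obtain rfl : g = xg hD F r t := Units.ext e
    exact ⟨xg_mem_rz_zero hD hR (isLin_lev hD) hr h.ge t,
      xg_mem_rz_zero hD hR ((isLin_lev hD).smul (-1)) hr (by omega) t⟩
  have hzu := uTri_pos hD hR hz1
  suffices hz1' : z = 1 by subst hz1'; simpa using hu
  apply Units.ext
  ext x y
  by_cases e : x = y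
  · subst e; rw [hzu.2]; simp
  rw [Units.val_one, Matrix.one_apply_ne e]
  by_contra hne
  have hoff : ∀ f : ℕ → ℤ, z ∈ Rz D F f 0 → wt D f y + ((0 : ℕ) : ℤ) ≤ wt D f x := fun f hf =>
    hf.1 x y (by rw [Matrix.sub_apply, Matrix.one_apply_ne e, sub_zero]; exact hne)
  have k1 := hoff _ hz2
  have k2 := hoff _ hz3.1
  have k3 := hoff _ hz3.2
  have k4 := (hzu.1 x y hne).resolve_left e
  have e1 : ∀ c : D.Idx, wt D g₂ c + wt D (ht D M) c = C * wt D (lev D M j) c := by
    intro c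
    rcases c with i | q
    · simp [wt]
    · exact hsum q.val q.isLt
  have e2 : ∀ c : D.Idx, wt D (fun q => -1 * lev D M j q) c = -wt D (lev D M j) c := by
    intro c; rcases c with i | q <;> simp [wt]
  rw [e2, e2] at k3
  have heq : wt D (lev D M j) y = wt D (lev D M j) x := by omega
  have := e1 x
  have := e1 y
  rw [heq] at this
  omega

end Cfsg.Agent.ChevLevel
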